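import Groth.Agent.H1.FlatLocusExists
import Groth.Agent.H44.FPSections
import Groth.Agent.H71.QCoh.FlatOver
import Groth.Agent.H71.QCoh.StalkRank

/-!
# Openness of the flat locus of a finitely presented module (geometric form) (helper70)
-/

set_option autoImplicit false
set_option linter.style.haveILetI false

open CategoryTheory Limits AlgebraicGeometry TopologicalSpace Opposite

namespace Groth.Agent.H70.FlatLocusGeo

universe u

variable {X Y : Scheme.{u}} (f : X ⟶ Y) (M : X.Modules) [M.IsQuasicoherent]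

open Groth.Agent.H71.QCoh in
/-- flatness over `Y` at `x ∈ U` (with `U ≤ f⁻¹V` affine) in terms of the localization of `Γ(M,U)` -/
theorem isFlatOverAt_iff_flat_localizedModule {U : X.Opens} {V : Y.Opens} (hU : IsAffineOpen U)
    (hV : IsAffineOpen V) (e : U ≤ f ⁻¹ᵁ V) {x : X} (hxU : x ∈ U) :
    letI : Algebra Γ(Y, V) Γ(X, U) := (f.appLE V U e).hom.toAlgebra
    letI : Module Γ(Y, V) Γ(M, U) := Module.compHom _ (f.appLE V U e).hom
    haveI : IsScalarTower Γ(Y, V) Γ(X, U) Γ(M, U) :=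
      IsScalarTower.of_algebraMap_smul (fun r m => rfl)
    FlatMod.IsFlatOverAt f M x ↔
      Module.Flat Γ(Y, V)
        (LocalizedModule (hU.primeIdealOf ⟨x, hxU⟩).asIdeal.primeCompl Γ(M, U)) := by
  letI : Algebra Γ(Y, V) Γ(X, U) := (f.appLE V U e).hom.toAlgebra
  letI : Module Γ(Y, V) Γ(M, U) := Module.compHom _ (f.appLE V U e).hom
  haveI : IsScalarTower Γ(Y, V) Γ(X, U) Γ(M, U) :=
    IsScalarTower.of_algebraMap_smul (fun r m => rfl)
  rw [isFlatOverAt_iff_flat_base f M hV (e hxU)]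
  letI := baseModuleStalk f M (e hxU)
  letI := Groth.Agent.H8.stalkModule M hxU
  haveI : IsScalarTower Γ(Y, V) Γ(X, U) (M.presheaf.stalk x) :=
    IsScalarTower.of_algebraMap_smul (fun r m => by
      change (X.presheaf.germ U x hxU).hom ((f.appLE V U e).hom r) • m =
        (f.stalkMap x).hom ((Y.presheaf.germ V (f x) (e hxU)).hom r) • m
      rw [stalkMap_germ_eq_germ_appLE f e hxU r])
  haveI hloc := Groth.Agent.H8.isLocalizedModule_germₗ M hU hxU
  let eq := (IsLocalizedModule.iso (hU.primeIdealOf ⟨x, hxU⟩).asIdeal.primeCompl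
    (Groth.Agent.H8.germₗ M hxU)).restrictScalars Γ(Y, V)
  exact ⟨fun h => Module.Flat.of_linearEquiv eq, fun h => Module.Flat.of_linearEquiv eq.symm⟩

open Groth.Agent.H71.QCoh Groth.Agent.H1.FlatLocus in
/-- **Openness of the flat locus**, geometric form. -/
theorem isOpen_setOf_isFlatOverAt [LocallyOfFinitePresentation f]
    [SheafOfModules.IsFinitePresentation (R := X.ringCatSheaf) M] :
    IsOpen {x : X | FlatMod.IsFlatOverAt f M x} := by
  rw [isOpen_iff_forall_mem_open]
  intro x hx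
  obtain ⟨U, V, hU, hV, hxU, e⟩ := exists_affine_pair f x
  letI : Algebra Γ(Y, V) Γ(X, U) := (f.appLE V U e).hom.toAlgebra
  haveI : Algebra.FinitePresentation Γ(Y, V) Γ(X, U) := f.finitePresentation_appLE hV hU e
  letI : Module Γ(Y, V) Γ(M, U) := Module.compHom _ (f.appLE V U e).hom
  haveI : IsScalarTower Γ(Y, V) Γ(X, U) Γ(M, U) :=
    IsScalarTower.of_algebraMap_smul (fun r m => rfl)
  haveI : Module.FinitePresentation Γ(X, U) Γ(M, U) :=
    Groth.Agent.H44.finitePresentation_sections_of_isFinitePresentation M hU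
  have hopen : IsOpen (flatLocus Γ(Y, V) (S := Γ(X, U)) Γ(M, U)) :=
    isOpen_flatLocus_of_finitePresentation (R := Γ(Y, V)) (S := Γ(X, U)) (M := Γ(M, U))
  refine ⟨hU.fromSpec '' (flatLocus Γ(Y, V) (S := Γ(X, U)) Γ(M, U)), ?_, ?_, ?_⟩
  · rintro _ ⟨q, hq, rfl⟩
    have hmem := fromSpec_mem hU q
    rw [Set.mem_setOf_eq, isFlatOverAt_iff_flat_localizedModule f M hU hV e hmem,
      primeIdealOf_fromSpec]
    exact hq
  · exact hU.fromSpec.isOpenEmbedding.isOpenMap _ hopen
  · refine ⟨hU.primeIdealOf ⟨x, hxU⟩, ?_, hU.fromSpec_primeIdealOf ⟨x, hxU⟩⟩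
    exact (isFlatOverAt_iff_flat_localizedModule f M hU hV e hxU).1 hx

end Groth.Agent.H70.FlatLocusGeo
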