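import Groth.Agent.H70.PdFibre.KerFP

/-!
# Algebra for the locus where a map is injective with flat cokernel (helper70)
-/

set_option autoImplicit false
set_option linter.style.haveILetI false

open Function

namespace Groth.Agent.H70.FlatLocusGeo

universe u

section Loc

variable {B : Type*} [CommRing B] (S : Submonoid B)
  {M' M L' L : Type*} [AddCommGroup M'] [AddCommGroup M] [AddCommGroup L'] [AddCommGroup L]
  [Module B M'] [Module B M] [Module B L'] [Module B L]

/-- injectivity of the localized map in terms of the kernel of the original map -/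
theorem injective_iff_of_isLocalizedModule (g' : M' →ₗ[B] L') (g : M →ₗ[B] L)
    [IsLocalizedModule S g'] [IsLocalizedModule S g] (φ : M' →ₗ[B] M) (ψ : L' →ₗ[B] L)
    (h : ∀ m, ψ (g' m) = g (φ m)) :
    Injective ψ ↔ ∀ n ∈ LinearMap.ker φ, ∃ s ∈ S, s • n = 0 := by
  constructor
  · intro hinj n hn
    have h1 : ψ (g' n) = 0 := by rw [h, LinearMap.mem_ker.mp hn, map_zero]
    have h2 : g' n = 0 := hinj (h1.trans (map_zero ψ).symm)
    obtain ⟨s, hs⟩ := (IsLocalizedModule.eq_zero_iff S g').mp h2
    exact ⟨s.1, s.2, hs⟩
  · intro hker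
    rw [injective_iff_map_eq_zero]
    intro z hz
    obtain ⟨⟨m, s⟩, hms⟩ := IsLocalizedModule.surj S g' z
    have hms' : (s : B) • z = g' m := hms
    have h1 : g (φ m) = 0 := by
      rw [← h, ← hms', map_smul, hz, smul_zero]
    obtain ⟨t, ht⟩ := (IsLocalizedModule.eq_zero_iff S g).mp h1
    have h2 : t.1 • m ∈ LinearMap.ker φ := by
      rw [LinearMap.mem_ker, map_smul]; exact ht
    obtain ⟨s', hs', hs'0⟩ := hker _ h2
    have h3 : g' m = 0 := by
      rw [IsLocalizedModule.eq_zero_iff S g']
      exact ⟨⟨s', hs'⟩ * t, by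
        rw [Submonoid.smul_def, Submonoid.coe_mul, mul_smul]; exact hs'0⟩
    have h4 : (s : B) • z = 0 := by rw [hms', h3]
    have hu := IsLocalizedModule.map_units g' s
    rw [Module.End.isUnit_iff] at hu
    exact hu.1 (h4.trans (smul_zero (s : B)).symm)

end Loc

section Ker

/-- if `M' → M → C → 0` is exact with `M'` finite, `M` finitely presented and `C` flat over the
base, then the kernel of `M' → M` is finitely generated -/
theorem fg_ker_of_flat_coker (Hd : Groth.Agent.H47.IntModel.Descent4848.{u})
    (A B : Type u) [CommRing A] [CommRing B] [Algebra A B] [Algebra.FinitePresentation A B]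
    (M' M C : Type u) [AddCommGroup M'] [Module B M'] [Module.Finite B M']
    [AddCommGroup M] [Module B M] [Module.FinitePresentation B M]
    [AddCommGroup C] [Module B C] [Module A C] [IsScalarTower A B C] [Module.Flat A C]
    (φ : M' →ₗ[B] M) (π : M →ₗ[B] C) (hex : Exact φ π)
    (hπ : Surjective π) : (LinearMap.ker φ).FG := by
  have hker : LinearMap.ker π = LinearMap.range φ := (LinearMap.exact_iff.mp hex)
  have hkfg : (LinearMap.ker π).FG := by
    rw [hker]
    exact Submodule.FG.map φ Module.Finite.fg_top |> fun h => by rwa [Submodule.map_top] at h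
  haveI : Module.FinitePresentation B C := Module.finitePresentation_of_surjective π hπ hkfg
  haveI : Module.FinitePresentation B (LinearMap.ker π) :=
    Groth.Agent.H70.PdFibre.finitePresentation_ker_of_flat Hd A B M C π hπ
  let φ' : M' →ₗ[B] LinearMap.ker π := φ.codRestrict (LinearMap.ker π) (fun m => by
    rw [LinearMap.mem_ker]; exact hex.apply_apply_eq_zero m)
  have hφ' : Surjective φ' := by
    rintro ⟨k, hk⟩
    rw [hker] at hk
    obtain ⟨m, rfl⟩ := hk
    exact ⟨m, Subtype.ext rfl⟩
  have h := Module.FinitePresentation.fg_ker φ' hφ'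
  have : LinearMap.ker φ' = LinearMap.ker φ := LinearMap.ker_codRestrict _ _ _
  rwa [this] at h

/-- the locus where `φ` is injective is open, given a flat cokernel -/
theorem isOpen_compl_support_ker (Hd : Groth.Agent.H47.IntModel.Descent4848.{u})
    (A B : Type u) [CommRing A] [CommRing B] [Algebra A B] [Algebra.FinitePresentation A B]
    (M' M C : Type u) [AddCommGroup M'] [Module B M'] [Module.Finite B M']
    [AddCommGroup M] [Module B M] [Module.FinitePresentation B M]
    [AddCommGroup C] [Module B C] [Module A C] [IsScalarTower A B C] [Module.Flat A C]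
    (φ : M' →ₗ[B] M) (π : M →ₗ[B] C) (hex : Exact φ π)
    (hπ : Surjective π) : IsOpen (Module.support B (LinearMap.ker φ))ᶜ := by
  haveI : Module.Finite B (LinearMap.ker φ) :=
    Module.Finite.iff_fg.mpr (fg_ker_of_flat_coker Hd A B M' M C φ π hex hπ)
  rw [Module.support_eq_zeroLocus]
  exact (PrimeSpectrum.isClosed_zeroLocus _).isOpen_compl

end Ker

end Groth.Agent.H70.FlatLocusGeo
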