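import Groth.Agent.H70.FlatLocusGeo.Main
import Groth.Agent.H70.FlatLocusGeo.InjAlg
import Groth.Agent.H5.Stalk.Basic
import Groth.Agent.H12.QCohAbelian
import Groth.Agent.H49.SectionsExact
import Groth.Agent.H71.QCoh.ExactSections
import Groth.Agent.H71.QCoh.FPCriterion

/-!
# Openness of the locus where `u_x` is injective with flat cokernel (helper70)
-/

set_option autoImplicit false
set_option linter.style.haveILetI false

open CategoryTheory Limits AlgebraicGeometry TopologicalSpace Opposite

namespace Groth.Agent.H70.FlatLocusGeo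

universe u

variable {X Y : Scheme.{u}}

/-- the map on sections over `U` as a `Γ(X,U)`-linear map -/
noncomputable def appₗ {F' F : X.Modules} (u : F' ⟶ F) (U : X.Opens) :
    Γ(F', U) →ₗ[Γ(X, U)] Γ(F, U) := (u.val.app (op U)).hom

/-- injectivity of the stalk map in terms of the support of the kernel on sections over an affine
open -/
theorem stalk_injective_iff {F' F : X.Modules} [F'.IsQuasicoherent] [F.IsQuasicoherent]
    (u : F' ⟶ F) {U : X.Opens} (hU : IsAffineOpen U) {x : X} (hxU : x ∈ U) :
    Function.Injective ((TopCat.Presheaf.stalkFunctor Ab x).map (Scheme.Modules.Hom.mapPresheaf u)) ↔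
      hU.primeIdealOf ⟨x, hxU⟩ ∉ Module.support Γ(X, U) (LinearMap.ker (appₗ u U)) := by
  letI := Groth.Agent.H8.stalkModule F' hxU
  letI := Groth.Agent.H8.stalkModule F hxU
  haveI := Groth.Agent.H8.isLocalizedModule_germₗ F' hU hxU
  haveI := Groth.Agent.H8.isLocalizedModule_germₗ F hU hxU
  let φ : Γ(F', U) →ₗ[Γ(X, U)] Γ(F, U) := appₗ u U
  let ψ : F'.presheaf.stalk x →ₗ[Γ(X, U)] F.presheaf.stalk x :=
    { toFun := fun m => (TopCat.Presheaf.stalkFunctor Ab x).map u.mapPresheaf m
      map_add' := fun a b => map_add _ a b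
      map_smul' := fun r m =>
        ((Groth.Agent.H5.Stalk.stalkFunctor x).map u).hom.map_smul (X.presheaf.germ U x hxU r) m }
  have h : ∀ m, ψ (Groth.Agent.H8.germₗ F' hxU m) = Groth.Agent.H8.germₗ F hxU (φ m) :=
    fun m => TopCat.Presheaf.stalkFunctor_map_germ_apply U x hxU u.mapPresheaf m
  have key := injective_iff_of_isLocalizedModule (hU.primeIdealOf ⟨x, hxU⟩).asIdeal.primeCompl
    (Groth.Agent.H8.germₗ F' hxU) (Groth.Agent.H8.germₗ F hxU) φ ψ h
  rw [Module.notMem_support_iff']
  refine Iff.trans ?_ (key.trans ?_)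
  · exact Iff.rfl
  · constructor
    · intro H m
      obtain ⟨s, hs, hs0⟩ := H m.1 m.2
      exact ⟨s, hs, Subtype.ext hs0⟩
    · intro H n hn
      obtain ⟨r, hr, hr0⟩ := H ⟨n, hn⟩
      exact ⟨r, hr, congrArg Subtype.val hr0⟩

lemma appₗ_comp_apply {F₁ F₂ F₃ : X.Modules} (a : F₁ ⟶ F₂) (b : F₂ ⟶ F₃) (U : X.Opens)
    (m : Γ(F₁, U)) : appₗ (a ≫ b) U m = appₗ b U (appₗ a U m) := rfl

/-- right exactness of sections over an affine open for quasi-coherent modules -/
theorem sections_exact_cokernel {F' F : X.Modules} [F'.IsQuasicoherent] [F.IsQuasicoherent]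
    (u : F' ⟶ F) {U : X.Opens} (hU : IsAffineOpen U) :
    Function.Exact (appₗ u U) (appₗ (cokernel.π u) U) ∧
      Function.Surjective (appₗ (cokernel.π u) U) := by
  haveI := Groth.Agent.H12.QCohAbelian.isQuasicoherent_cokernel u
  haveI : (Abelian.image u).IsQuasicoherent := Groth.Agent.H12.QCohAbelian.isQuasicoherent_image u
  have hsurj : Function.Surjective (appₗ (cokernel.π u) U) :=
    Groth.Agent.H71.QCoh.app_surjective_of_epi (cokernel.π u) hU
  refine ⟨?_, hsurj⟩
  let p := cokernel.π u
  let E : ShortComplex X.Modules := ShortComplex.mk (kernel.ι p) p (kernel.condition p)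
  have hEx : E.Exact := ShortComplex.exact_of_f_is_kernel E (kernelIsKernel p)
  haveI : Mono E.f := inferInstanceAs (Mono (kernel.ι p))
  haveI : Epi E.g := inferInstanceAs (Epi p)
  have hE : E.ShortExact := ShortComplex.ShortExact.mk' hEx inferInstance inferInstance
  haveI : E.X₁.IsQuasicoherent := inferInstanceAs (Abelian.image u).IsQuasicoherent
  obtain ⟨-, hex, -⟩ := Groth.Agent.H49.SectionsExact.sections_shortExact E hE hU
  have hq : Function.Surjective (appₗ (Abelian.factorThruImage u) U) :=
    Groth.Agent.H71.QCoh.app_surjective_of_epi (Abelian.factorThruImage u) hU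
  intro m
  constructor
  · intro hm
    obtain ⟨k, hk⟩ := (hex m).mp hm
    obtain ⟨m', rfl⟩ := hq k
    refine ⟨m', ?_⟩
    rw [← hk]
    have := appₗ_comp_apply (Abelian.factorThruImage u) (Abelian.image.ι u) U m'
    rw [Abelian.image.fac] at this
    exact this
  · rintro ⟨m', rfl⟩
    have := appₗ_comp_apply u (cokernel.π u) U m'
    rw [← this, cokernel.condition]
    rfl

/-- sections of the cokernel of a map between finitely presented quasi-coherent modules over an
affine open form a finitely presented module -/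
theorem finitePresentation_sections_cokernel {F' F : X.Modules} [F'.IsQuasicoherent]
    [F.IsQuasicoherent] [SheafOfModules.IsFinitePresentation (R := X.ringCatSheaf) F]
    [SheafOfModules.IsFinitePresentation (R := X.ringCatSheaf) F']
    (u : F' ⟶ F) {U : X.Opens} (hU : IsAffineOpen U) :
    Module.FinitePresentation Γ(X, U) Γ(cokernel u, U) := by
  obtain ⟨hex, hsurj⟩ := sections_exact_cokernel u hU
  haveI : Module.FinitePresentation Γ(X, U) Γ(F, U) :=
    Groth.Agent.H44.finitePresentation_sections_of_isFinitePresentation F hU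
  haveI : Module.FinitePresentation Γ(X, U) Γ(F', U) :=
    Groth.Agent.H44.finitePresentation_sections_of_isFinitePresentation F' hU
  have hker : LinearMap.ker (appₗ (cokernel.π u) U) = LinearMap.range (appₗ u U) :=
    LinearMap.exact_iff.mp hex
  have hkfg : (LinearMap.ker (appₗ (cokernel.π u) U)).FG := by
    rw [hker, ← Submodule.map_top]
    exact Submodule.FG.map _ Module.Finite.fg_top
  exact Module.finitePresentation_of_surjective (appₗ (cokernel.π u) U) hsurj hkfg

/-- the cokernel of a map between finitely presented quasi-coherent modules is finitely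
presented -/
theorem isFinitePresentation_cokernel {F' F : X.Modules} [F'.IsQuasicoherent]
    [F.IsQuasicoherent] [SheafOfModules.IsFinitePresentation (R := X.ringCatSheaf) F]
    [SheafOfModules.IsFinitePresentation (R := X.ringCatSheaf) F']
    (u : F' ⟶ F) : SheafOfModules.IsFinitePresentation (R := X.ringCatSheaf) (cokernel u) := by
  haveI := Groth.Agent.H12.QCohAbelian.isQuasicoherent_cokernel u
  choose U V hU hV hxU hUV using Groth.Agent.H71.QCoh.exists_affine_pair (𝟙 X)
  refine Groth.Agent.H71.QCoh.isFinitePresentation_of_finitePresentation_sections (cokernel u) U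
    ?_ hU (fun x => finitePresentation_sections_cokernel u (hU x))
  refine IsOpenCover.mk (eq_top_iff.mpr ?_)
  intro x _
  exact TopologicalSpace.Opens.mem_iSup.mpr ⟨x, hxU x⟩

open Groth.Agent.H71.QCoh in
/-- **Openness of the locus where `u_x` is injective and `Coker u` is flat over the base.** -/
theorem isOpen_setOf_injective_and_isFlatOverAt
    (Hd : Groth.Agent.H47.IntModel.Descent4848.{u}) (f : X ⟶ Y) [LocallyOfFinitePresentation f]
    (F F' : X.Modules) [F.IsQuasicoherent] [F'.IsQuasicoherent]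
    [SheafOfModules.IsFinitePresentation (R := X.ringCatSheaf) F]
    [SheafOfModules.IsFinitePresentation (R := X.ringCatSheaf) F'] (u : F' ⟶ F) :
    IsOpen {x : X | Function.Injective
        ((TopCat.Presheaf.stalkFunctor Ab x).map (Scheme.Modules.Hom.mapPresheaf u)) ∧
      FlatMod.IsFlatOverAt f (cokernel u) x} := by
  haveI := Groth.Agent.H12.QCohAbelian.isQuasicoherent_cokernel u
  have hfp := isFinitePresentation_cokernel u
  have hW : IsOpen {x : X | FlatMod.IsFlatOverAt f (cokernel u) x} :=
    @isOpen_setOf_isFlatOverAt X Y f (cokernel u) _ _ hfp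
  rw [isOpen_iff_forall_mem_open]
  rintro x ⟨hxinj, hxflat⟩
  -- an affine pair inside the flat locus
  obtain ⟨_, ⟨V, hV, rfl⟩, hxV, -⟩ :=
    Y.isBasis_affineOpens.exists_subset_of_mem_open (Set.mem_univ (f.base x)) isOpen_univ
  obtain ⟨_, ⟨U, hU, rfl⟩, hxU, hUsub⟩ :=
    X.isBasis_affineOpens.exists_subset_of_mem_open
      (show x ∈ ((f ⁻¹ᵁ V : Set X) ∩ {x : X | FlatMod.IsFlatOverAt f (cokernel u) x}) from
        ⟨hxV, hxflat⟩) ((f ⁻¹ᵁ V).2.inter hW)
  have e : U ≤ f ⁻¹ᵁ V := fun y hy => (hUsub hy).1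
  have hUflat : ∀ y ∈ U, FlatMod.IsFlatOverAt f (cokernel u) y := fun y hy => (hUsub hy).2
  letI : Algebra Γ(Y, V) Γ(X, U) := (f.appLE V U e).hom.toAlgebra
  haveI : Algebra.FinitePresentation Γ(Y, V) Γ(X, U) := f.finitePresentation_appLE hV hU e
  letI : Module Γ(Y, V) Γ(cokernel u, U) := Module.compHom _ (f.appLE V U e).hom
  haveI : IsScalarTower Γ(Y, V) Γ(X, U) Γ(cokernel u, U) :=
    IsScalarTower.of_algebraMap_smul (fun r m => rfl)
  haveI : Module.Flat Γ(Y, V) Γ(cokernel u, U) :=
    flat_sections_base_of_isFlatOverAt f (cokernel u) hU hV e hUflat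
  haveI : Module.FinitePresentation Γ(X, U) Γ(F, U) :=
    Groth.Agent.H44.finitePresentation_sections_of_isFinitePresentation F hU
  haveI : Module.FinitePresentation Γ(X, U) Γ(F', U) :=
    Groth.Agent.H44.finitePresentation_sections_of_isFinitePresentation F' hU
  obtain ⟨hex, hsurj⟩ := sections_exact_cokernel u hU
  have hopen := isOpen_compl_support_ker Hd Γ(Y, V) Γ(X, U) Γ(F', U) Γ(F, U) Γ(cokernel u, U)
    (appₗ u U) (appₗ (cokernel.π u) U) hex hsurj
  refine ⟨hU.fromSpec '' (Module.support Γ(X, U) (LinearMap.ker (appₗ u U)))ᶜ, ?_, ?_, ?_⟩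
  · rintro _ ⟨q, hq, rfl⟩
    have hmem := fromSpec_mem hU q
    refine ⟨?_, hUflat _ hmem⟩
    rw [stalk_injective_iff u hU hmem, primeIdealOf_fromSpec]
    exact hq
  · exact hU.fromSpec.isOpenEmbedding.isOpenMap _ hopen
  · refine ⟨hU.primeIdealOf ⟨x, hxU⟩, ?_, hU.fromSpec_primeIdealOf ⟨x, hxU⟩⟩
    exact (stalk_injective_iff u hU hxU).1 hxinj

end Groth.Agent.H70.FlatLocusGeo
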